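import Mathlib
import Groth.Agent.Lib.Helper1.ZMTa9

/-!
# Sections of étale separated morphisms lift when clopen subsets lift along finite morphisms
(EGA IV 18.5.11 a) ⇒ b)) (helper7)

`S` quasi-compact quasi-separated, `i : S₀ ⟶ S` a closed immersion such that for every finite
`S' ⟶ S` the clopen subsets of `S' ×_S S₀` lift uniquely to clopen subsets of `S'`.  Then sections
over `S₀` of an étale separated `S`-scheme lift uniquely to sections over `S`.  The proof uses
Zariski's main theorem in its finite form over a qcqs base (helper1, `zmt_qcqs`).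
-/

set_option linter.style.haveILetI false
set_option linter.unusedVariables false
set_option linter.unusedSectionVars false
set_option autoImplicit false
set_option backward.isDefEq.respectTransparency.types false
set_option backward.isDefEq.respectTransparency false
set_option synthInstance.maxHeartbeats 400000
set_option maxHeartbeats 1600000

universe u
open CategoryTheory CategoryTheory.Limits AlgebraicGeometry TopologicalSpace

namespace Groth.Agent.Helper7.HensSec

/-- the clopen-lifting hypothesis of EGA IV 18.5.11 a) -/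
def LiftProp {S S₀ : Scheme.{u}} (i : S₀ ⟶ S) : Prop :=
  ∀ (S' : Scheme.{u}) (g : S' ⟶ S), IsFinite g →
    ∀ V : Set ↥(pullback g i), IsClopen V →
      ∃! U : Set ↥S', IsClopen U ∧ (pullback.fst g i).base ⁻¹' U = V

theorem locallyQuasiFinite_of_etale {X Y : Scheme.{u}} (f : X ⟶ Y) [Etale f] :
    LocallyQuasiFinite f := by
  rw [HasRingHomProperty.iff_appLE (P := @LocallyQuasiFinite)]
  intro U V e
  have h := (HasRingHomProperty.iff_appLE (P := @Etale)).mp ‹Etale f› U V e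
  algebraize [(f.appLE U V e).hom]
  have : Algebra.Etale Γ(Y, U) Γ(X, V) := h
  exact (inferInstance : Algebra.QuasiFinite Γ(Y, U) Γ(X, V))

/-- a clopen subset of a finite `S`-scheme which does not meet the part over `S₀` is empty -/
theorem eq_empty_of_isClopen {S S₀ : Scheme.{u}} (i : S₀ ⟶ S) (ha : LiftProp i) {Z : Scheme.{u}}
    (h : Z ⟶ S) [IsFinite h] (C : Set Z) (hC : IsClopen C)
    (hdisj : ∀ z ∈ C, ∀ x : S₀, h z ≠ i x) : C = ∅ := by
  obtain ⟨U, -, hU⟩ := ha Z h inferInstance ∅ isClopen_empty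
  have hpre : (pullback.fst h i).base ⁻¹' C = ∅ := by
    ext y
    simp only [Set.mem_preimage, Set.mem_empty_iff_false, iff_false]
    intro hy
    have hy' : (pullback.fst h i) y ∈ C := hy
    refine hdisj _ hy' ((pullback.snd h i) y) ?_
    rw [← Scheme.Hom.comp_apply, ← Scheme.Hom.comp_apply, pullback.condition]
  have h1 : C = U := hU C ⟨hC, hpre⟩
  have h2 : (∅ : Set Z) = U := hU ∅ ⟨isClopen_empty, Set.preimage_empty⟩
  rw [h1, ← h2]

theorem isOpenImmersion_of_section {Z W : Scheme.{u}} (q : Z ⟶ W) [Etale q] (σ : W ⟶ Z)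
    (h : σ ≫ q = 𝟙 W) : IsOpenImmersion σ := by
  have h1 : Etale (σ ≫ q) := by rw [h]; infer_instance
  have h2 : Etale σ := MorphismProperty.of_postcomp (W := @Etale) (W' := @Etale) σ q
    inferInstance h1
  have h3 : Mono (σ ≫ q) := by rw [h]; infer_instance
  have h4 : Mono σ := mono_of_mono σ q
  exact IsOpenImmersion.of_flat_of_mono σ

theorem isClosedImmersion_of_section {Z W : Scheme.{u}} (q : Z ⟶ W) [IsSeparated q] (σ : W ⟶ Z)
    (h : σ ≫ q = 𝟙 W) : IsClosedImmersion σ := by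
  haveI : IsClosedImmersion (σ ≫ q) := by rw [h]; infer_instance
  exact IsClosedImmersion.of_comp σ q

/-- uniqueness of the lifted section -/
theorem section_unique {S S₀ S' : Scheme.{u}} (i : S₀ ⟶ S) (ha : LiftProp i) (g : S' ⟶ S)
    [Etale g] [IsSeparated g] (u u' : S ⟶ S') (hu : u ≫ g = 𝟙 S) (hu' : u' ≫ g = 𝟙 S)
    (h : i ≫ u = i ≫ u') : u = u' := by
  haveI := isOpenImmersion_of_section g u hu
  haveI := isOpenImmersion_of_section g u' hu'
  haveI := isClosedImmersion_of_section g u' hu'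
  have hcl : IsClopen (Set.range u') :=
    ⟨u'.isClosedEmbedding.isClosed_range, u'.isOpenEmbedding.isOpen_range⟩
  have hC : IsClopen (u ⁻¹' (Set.range u')ᶜ) := hcl.compl.preimage u.continuous
  have hempty : u ⁻¹' (Set.range u')ᶜ = ∅ := by
    refine eq_empty_of_isClopen i ha (𝟙 S) _ hC ?_
    intro z hz x hzx
    apply hz
    have hz' : z = i x := by simpa using hzx
    refine ⟨i x, ?_⟩
    rw [hz', ← Scheme.Hom.comp_apply, ← Scheme.Hom.comp_apply, h]
  have hsub : Set.range u ⊆ Set.range u' := by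
    rintro _ ⟨s, rfl⟩
    by_contra hs
    have hmem : s ∈ u ⁻¹' (Set.range u')ᶜ := hs
    rw [hempty] at hmem
    exact hmem
  have hlift : IsOpenImmersion.lift u' u hsub ≫ u' = u := IsOpenImmersion.lift_fac u' u hsub
  have hid : IsOpenImmersion.lift u' u hsub = 𝟙 S := by
    calc IsOpenImmersion.lift u' u hsub
        = IsOpenImmersion.lift u' u hsub ≫ u' ≫ g := by rw [hu', Category.comp_id]
      _ = u ≫ g := by rw [← Category.assoc, hlift]
      _ = 𝟙 S := hu
  rw [← hlift, hid, Category.id_comp]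

/-- a compact subset of a scheme has a quasi-compact open neighbourhood -/
theorem exists_compact_open {X : Scheme.{u}} (K : Set X) (hK : IsCompact K) :
    ∃ U : X.Opens, K ⊆ (U : Set X) ∧ IsCompact (U : Set X) := by
  classical
  have hpt : ∀ x : X, ∃ W : X.Opens, IsAffineOpen W ∧ x ∈ W := by
    intro x
    obtain ⟨W, hW, hxW, -⟩ :=
      exists_isAffineOpen_mem_and_subset (X := X) (x := x) (U := ⊤) trivial
    exact ⟨W, hW, hxW⟩
  choose W hW hxW using hpt
  obtain ⟨t, ht⟩ := hK.elim_finite_subcover (fun x => (W x : Set X)) (fun x => (W x).isOpen)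
    (fun x _ => Set.mem_iUnion.mpr ⟨x, hxW x⟩)
  refine ⟨⟨⋃ x ∈ t, (W x : Set X), isOpen_biUnion fun x _ => (W x).isOpen⟩, ht, ?_⟩
  exact t.isCompact_biUnion fun x _ => (hW x).isCompact

/-- the clopen subset of `T` lifting the image of the section -/
theorem exists_clopen {S S₀ S'' T : Scheme.{u}} (i : S₀ ⟶ S) [IsClosedImmersion i]
    (ha : LiftProp i) (g'' : S'' ⟶ S) [Etale g''] [IsSeparated g''] (j : S'' ⟶ T)
    [IsOpenImmersion j] (π : T ⟶ S) [IsFinite π] (hjπ : j ≫ π = g'') (w₀ : S₀ ⟶ S'')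
    (hw₀ : w₀ ≫ g'' = i) :
    ∃ Wset : Set T, IsClopen Wset ∧ (∀ x : S₀, j (w₀ x) ∈ Wset) ∧
      (∀ (a : S'') (x : S₀), j a ∈ Wset → g'' a = i x → a = w₀ x) ∧ Wset ⊆ Set.range j := by
  obtain ⟨t₀, ht₀def⟩ : ∃ t₀ : S₀ ⟶ T, t₀ = w₀ ≫ j := ⟨_, rfl⟩
  have ht₀ : t₀ ≫ π = i := by rw [ht₀def, Category.assoc, hjπ, hw₀]
  obtain ⟨τ₀, hτ₀1, hτ₀2⟩ : ∃ τ₀ : S₀ ⟶ pullback π i,
      τ₀ ≫ pullback.fst π i = t₀ ∧ τ₀ ≫ pullback.snd π i = 𝟙 S₀ :=
    ⟨pullback.lift t₀ (𝟙 S₀) (by rw [ht₀, Category.id_comp]), pullback.lift_fst _ _ _,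
      pullback.lift_snd _ _ _⟩
  haveI hτcl : IsClosedImmersion τ₀ :=
    isClosedImmersion_of_section (pullback.snd π i) τ₀ hτ₀2
  haveI hτop : IsOpenImmersion τ₀ := by
    obtain ⟨τ₁, hτ₁1, hτ₁2⟩ : ∃ τ₁ : S₀ ⟶ pullback g'' i,
        τ₁ ≫ pullback.fst g'' i = w₀ ∧ τ₁ ≫ pullback.snd g'' i = 𝟙 S₀ :=
      ⟨pullback.lift w₀ (𝟙 S₀) (by rw [hw₀, Category.id_comp]), pullback.lift_fst _ _ _,
        pullback.lift_snd _ _ _⟩
    haveI : IsOpenImmersion τ₁ := isOpenImmersion_of_section (pullback.snd g'' i) τ₁ hτ₁2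
    have hm : τ₀ = τ₁ ≫ pullback.map g'' i π i j (𝟙 S₀) (𝟙 S)
        (by rw [Category.comp_id, hjπ]) (by rw [Category.comp_id, Category.id_comp]) := by
      apply pullback.hom_ext
      · rw [hτ₀1, Category.assoc, pullback.lift_fst, ← Category.assoc, hτ₁1, ht₀def]
      · rw [hτ₀2, Category.assoc, pullback.lift_snd, ← Category.assoc, hτ₁2, Category.id_comp]
    rw [hm]
    infer_instance
  have hVcl : IsClopen (Set.range τ₀) :=
    ⟨τ₀.isClosedEmbedding.isClosed_range, τ₀.isOpenEmbedding.isOpen_range⟩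
  obtain ⟨Wset, ⟨hWcl, hWpre⟩, -⟩ := ha T π inferInstance (Set.range τ₀) hVcl
  have key : ∀ (t : T) (x : S₀), t ∈ Wset → π t = i x → t = j (w₀ x) := by
    intro t x htW htx
    obtain ⟨q, hq1, hq2⟩ := Scheme.Pullback.exists_preimage_pullback (f := π) (g := i) t x htx
    have hqV : q ∈ Set.range τ₀ := by
      rw [← hWpre]
      show (pullback.fst π i) q ∈ Wset
      rw [hq1]
      exact htW
    obtain ⟨x', rfl⟩ := hqV
    have hx' : x' = x := by
      rw [← hq2, ← Scheme.Hom.comp_apply, hτ₀2]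
      simp
    rw [← hq1, ← Scheme.Hom.comp_apply, hτ₀1, ht₀def, Scheme.Hom.comp_apply, hx']
  refine ⟨Wset, hWcl, ?_, ?_, ?_⟩
  · intro x
    have hmem : τ₀ x ∈ (pullback.fst π i).base ⁻¹' Wset := by
      rw [hWpre]
      exact ⟨x, rfl⟩
    have h2 : (pullback.fst π i) (τ₀ x) ∈ Wset := hmem
    rwa [← Scheme.Hom.comp_apply, hτ₀1, ht₀def, Scheme.Hom.comp_apply] at h2
  · intro a x haW hax
    have h3 := key (j a) x haW (by rw [← Scheme.Hom.comp_apply, hjπ, hax])
    exact j.isOpenEmbedding.injective h3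
  · intro t htW
    by_contra htj
    have hDcl : IsClosed (Wset ∩ (Set.range j)ᶜ) :=
      hWcl.1.inter j.isOpenEmbedding.isOpen_range.isClosed_compl
    obtain ⟨I, hI⟩ : ∃ I : T.IdealSheafData, (I.support : Set T) = Wset ∩ (Set.range j)ᶜ :=
      ⟨Scheme.IdealSheafData.vanishingIdeal ⟨_, hDcl⟩,
        Scheme.IdealSheafData.coe_support_vanishingIdeal _⟩
    have hrange : Set.range I.subschemeι = Wset ∩ (Set.range j)ᶜ := by
      rw [I.range_subschemeι, hI]
    have hemp : (Set.univ : Set I.subscheme) = ∅ := by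
      refine eq_empty_of_isClopen i ha (I.subschemeι ≫ π) Set.univ isClopen_univ ?_
      intro z _ x hzx
      have hzD : I.subschemeι z ∈ Wset ∩ (Set.range j)ᶜ := by
        rw [← hrange]
        exact ⟨z, rfl⟩
      have h4 := key (I.subschemeι z) x hzD.1 (by rw [← Scheme.Hom.comp_apply]; exact hzx)
      exact hzD.2 ⟨w₀ x, h4.symm⟩
    have htD : t ∈ Set.range I.subschemeι := by
      rw [hrange]
      exact ⟨htW, htj⟩
    obtain ⟨z, -⟩ := htD
    have hz : z ∈ (Set.univ : Set I.subscheme) := trivial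
    rw [hemp] at hz
    exact hz

/-- the lifted clopen subset maps isomorphically onto `S`, which gives the section -/
theorem exists_section_of_clopen {S S₀ S'' T : Scheme.{u}} (i : S₀ ⟶ S) [IsClosedImmersion i]
    (ha : LiftProp i) (g'' : S'' ⟶ S) [Etale g''] [IsSeparated g''] (j : S'' ⟶ T)
    [IsOpenImmersion j] (π : T ⟶ S) [IsFinite π] (w₀ : S₀ ⟶ S'') (Wset : Set T)
    (hWcl : IsClopen Wset) (hW0 : ∀ x : S₀, j (w₀ x) ∈ Wset)
    (hW1 : ∀ (a : S'') (x : S₀), j a ∈ Wset → g'' a = i x → a = w₀ x)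
    (hWj : Wset ⊆ Set.range j) (hjπ : j ≫ π = g'') (hw₀ : w₀ ≫ g'' = i) :
    ∃ u : S ⟶ S'', u ≫ g'' = 𝟙 S ∧ i ≫ u = w₀ := by
  obtain ⟨W', hW'⟩ : ∃ W' : S''.Opens, (W' : Set S'') = j ⁻¹' Wset :=
    ⟨⟨j ⁻¹' Wset, hWcl.2.preimage j.continuous⟩, rfl⟩
  have hmemW' : ∀ a : (W' : Scheme.{u}), j (W'.ι a) ∈ Wset := by
    intro a
    have h1 : W'.ι a ∈ (W' : Set S'') := by
      rw [← Scheme.Opens.range_ι]
      exact ⟨a, rfl⟩
    rw [hW'] at h1
    exact h1
  obtain ⟨ρ, hρ⟩ : ∃ ρ : (W' : Scheme.{u}) ⟶ S, ρ = W'.ι ≫ g'' := ⟨_, rfl⟩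
  haveI hρet : Etale ρ := by rw [hρ]; infer_instance
  haveI hρfin : IsFinite ρ := by
    have hrange : Set.range (W'.ι ≫ j) = Wset := by
      ext t
      constructor
      · rintro ⟨a, rfl⟩
        rw [Scheme.Hom.comp_apply]
        exact hmemW' a
      · intro ht
        obtain ⟨a, rfl⟩ := hWj ht
        have ha' : a ∈ (W' : Set S'') := by
          rw [hW']
          exact ht
        rw [← Scheme.Opens.range_ι] at ha'
        obtain ⟨a', rfl⟩ := ha'
        exact ⟨a', Scheme.Hom.comp_apply _ _ _⟩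
    haveI hcl : IsClosedImmersion (W'.ι ≫ j) := by
      apply IsClosedImmersion.of_isPreimmersion
      rw [hrange]
      exact hWcl.1
    have h2 : ρ = (W'.ι ≫ j) ≫ π := by rw [hρ, Category.assoc, hjπ]
    rw [h2]
    infer_instance
  have hw₀range : Set.range w₀ ⊆ Set.range W'.ι := by
    rintro _ ⟨x, rfl⟩
    rw [Scheme.Opens.range_ι, hW']
    exact hW0 x
  obtain ⟨w', hw'⟩ : ∃ w' : S₀ ⟶ (W' : Scheme.{u}), w' ≫ W'.ι = w₀ :=
    ⟨IsOpenImmersion.lift W'.ι w₀ hw₀range, IsOpenImmersion.lift_fac _ _ _⟩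
  have hw'ρ : w' ≫ ρ = i := by rw [hρ, ← Category.assoc, hw', hw₀]
  have hfib : ∀ (a : (W' : Scheme.{u})) (x : S₀), ρ a = i x → a = w' x := by
    intro a x hax
    apply W'.ι.isOpenEmbedding.injective
    rw [← Scheme.Hom.comp_apply w' W'.ι, hw']
    refine hW1 (W'.ι a) x (hmemW' a) ?_
    rw [← Scheme.Hom.comp_apply, ← hρ]
    exact hax
  -- the base change to `S₀` is an isomorphism
  obtain ⟨σ, hσ1, hσ2⟩ : ∃ σ : S₀ ⟶ pullback ρ i,
      σ ≫ pullback.fst ρ i = w' ∧ σ ≫ pullback.snd ρ i = 𝟙 S₀ :=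
    ⟨pullback.lift w' (𝟙 S₀) (by rw [hw'ρ, Category.id_comp]), pullback.lift_fst _ _ _,
      pullback.lift_snd _ _ _⟩
  haveI hσop : IsOpenImmersion σ := isOpenImmersion_of_section (pullback.snd ρ i) σ hσ2
  have hσsurj : Function.Surjective σ := by
    intro r
    refine ⟨(pullback.snd ρ i) r, ?_⟩
    apply (pullback.fst ρ i).isClosedEmbedding.injective
    rw [← Scheme.Hom.comp_apply σ (pullback.fst ρ i), hσ1]
    symm
    apply hfib
    rw [← Scheme.Hom.comp_apply, ← Scheme.Hom.comp_apply, pullback.condition]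
  haveI hσiso : IsIso σ := (isIso_iff_isOpenImmersion_and_surjective σ).mpr ⟨hσop, ⟨hσsurj⟩⟩
  haveI hsndmono : Mono (pullback.snd ρ i) := by
    have h3 : pullback.snd ρ i = inv σ := (IsIso.inv_eq_of_hom_inv_id hσ2).symm
    rw [h3]
    infer_instance
  -- `ρ` is a monomorphism
  haveI hρmono : Mono ρ := by
    rw [← pullback.isIso_diagonal_iff]
    haveI hΔop : IsOpenImmersion (pullback.diagonal ρ) := inferInstance
    haveI hΔcl : IsClosedImmersion (pullback.diagonal ρ) := inferInstance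
    have hCcl : IsClopen (Set.range (pullback.diagonal ρ))ᶜ :=
      IsClopen.compl ⟨(pullback.diagonal ρ).isClosedEmbedding.isClosed_range,
        (pullback.diagonal ρ).isOpenEmbedding.isOpen_range⟩
    obtain ⟨k, hk⟩ : ∃ k : pullback (pullback.snd ρ i) (pullback.snd ρ i) ⟶ pullback ρ ρ,
        k = pullback.map (pullback.snd ρ i) (pullback.snd ρ i) ρ ρ (pullback.fst ρ i)
          (pullback.fst ρ i) i pullback.condition.symm pullback.condition.symm := ⟨_, rfl⟩
    have hkrange : Set.range k = pullback.fst ρ ρ ⁻¹' Set.range (pullback.fst ρ i) ∩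
        pullback.snd ρ ρ ⁻¹' Set.range (pullback.fst ρ i) := by
      rw [hk]
      exact Scheme.Pullback.range_map _ _ _ _ _ _ _ _ _
    have hkfst : k ≫ pullback.fst ρ ρ = pullback.fst _ _ ≫ pullback.fst ρ i := by
      rw [hk]
      exact pullback.lift_fst _ _ _
    have hksnd : k ≫ pullback.snd ρ ρ = pullback.snd _ _ ≫ pullback.fst ρ i := by
      rw [hk]
      exact pullback.lift_snd _ _ _
    have hnat : pullback.diagonal (pullback.snd ρ i) ≫ k =
        pullback.fst ρ i ≫ pullback.diagonal ρ := by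
      apply pullback.hom_ext
      · rw [Category.assoc, hkfst, pullback.diagonal_fst_assoc, Category.assoc,
          pullback.diagonal_fst, Category.comp_id]
      · rw [Category.assoc, hksnd, pullback.diagonal_snd_assoc, Category.assoc,
          pullback.diagonal_snd, Category.comp_id]
    haveI hΔR : IsIso (pullback.diagonal (pullback.snd ρ i)) :=
      (pullback.isIso_diagonal_iff _).mpr hsndmono
    have hemp : (Set.range (pullback.diagonal ρ))ᶜ = ∅ := by
      refine eq_empty_of_isClopen i ha (pullback.fst ρ ρ ≫ ρ) _ hCcl ?_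
      intro c hc x hcx
      apply hc
      have hc1 : (pullback.fst ρ ρ) c ∈ Set.range (pullback.fst ρ i) := by
        rw [Scheme.Pullback.range_fst]
        refine ⟨x, ?_⟩
        rw [← Scheme.Hom.comp_apply]
        exact hcx.symm
      have hc2 : (pullback.snd ρ ρ) c ∈ Set.range (pullback.fst ρ i) := by
        rw [Scheme.Pullback.range_fst]
        refine ⟨x, ?_⟩
        rw [← Scheme.Hom.comp_apply, ← pullback.condition]
        exact hcx.symm
      have hck : c ∈ Set.range k := by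
        rw [hkrange]
        exact ⟨hc1, hc2⟩
      obtain ⟨c₀, rfl⟩ := hck
      have h5 : inv (pullback.diagonal (pullback.snd ρ i)) ≫ pullback.fst ρ i ≫
          pullback.diagonal ρ = k := by
        rw [← hnat, IsIso.inv_hom_id_assoc]
      have e := congrArg (fun φ : _ ⟶ pullback ρ ρ => φ c₀) h5
      simp only [Scheme.Hom.comp_apply] at e
      exact ⟨_, e⟩
    have hsurj : Function.Surjective (pullback.diagonal ρ) := by
      intro c
      by_contra hc
      have hc' : c ∈ (Set.range (pullback.diagonal ρ))ᶜ := hc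
      rw [hemp] at hc'
      exact hc'
    exact (isIso_iff_isOpenImmersion_and_surjective _).mpr ⟨hΔop, ⟨hsurj⟩⟩
  haveI hρop : IsOpenImmersion ρ := IsOpenImmersion.of_flat_of_mono ρ
  have hρsurj : Function.Surjective ρ := by
    have hcl : IsClopen (Set.range ρ)ᶜ :=
      IsClopen.compl ⟨ρ.isClosedMap.isClosed_range, ρ.isOpenEmbedding.isOpen_range⟩
    have hemp : (Set.range ρ)ᶜ = ∅ := by
      refine eq_empty_of_isClopen i ha (𝟙 S) _ hcl ?_
      intro z hz x hzx
      apply hz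
      have hz' : z = i x := by simpa using hzx
      refine ⟨w' x, ?_⟩
      rw [hz', ← Scheme.Hom.comp_apply, hw'ρ]
    intro s
    by_contra hs
    have hs' : s ∈ (Set.range ρ)ᶜ := hs
    rw [hemp] at hs'
    exact hs'
  haveI hρiso : IsIso ρ := (isIso_iff_isOpenImmersion_and_surjective ρ).mpr ⟨hρop, ⟨hρsurj⟩⟩
  refine ⟨inv ρ ≫ W'.ι, ?_, ?_⟩
  · rw [Category.assoc, ← hρ, IsIso.inv_hom_id]
  · have h6 : i ≫ inv ρ = w' := by
      rw [← hw'ρ, Category.assoc, IsIso.hom_inv_id, Category.comp_id]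
    rw [← Category.assoc, h6, hw']

/-- EGA IV 18.5.11 a) ⇒ b) -/
theorem main {S S₀ : Scheme.{u}} (i : S₀ ⟶ S) [IsClosedImmersion i]
    [CompactSpace ↥S] [QuasiSeparatedSpace ↥S] (ha : LiftProp i)
    {S' : Scheme.{u}} (g : S' ⟶ S) [Etale g] [IsSeparated g]
    (u₀ : S₀ ⟶ pullback g i) (hu₀ : u₀ ≫ pullback.snd g i = 𝟙 S₀) :
    ∃! u : S ⟶ S', u ≫ g = 𝟙 S ∧ i ≫ u = u₀ ≫ pullback.fst g i := by
  obtain ⟨v₀, hv₀def⟩ : ∃ v₀ : S₀ ⟶ S', v₀ = u₀ ≫ pullback.fst g i := ⟨_, rfl⟩
  have hv₀ : v₀ ≫ g = i := by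
    rw [hv₀def, Category.assoc, pullback.condition, ← Category.assoc, hu₀, Category.id_comp]
  haveI : CompactSpace ↥S₀ := i.isClosedEmbedding.compactSpace
  obtain ⟨S'', hKS, hS''c⟩ := exists_compact_open (Set.range v₀) (isCompact_range v₀.continuous)
  haveI : CompactSpace ↥(S'' : Scheme.{u}) := isCompact_iff_compactSpace.mp hS''c
  obtain ⟨w₀, hw₀⟩ : ∃ w₀ : S₀ ⟶ (S'' : Scheme.{u}), w₀ ≫ S''.ι = v₀ :=
    ⟨IsOpenImmersion.lift S''.ι v₀ (by rw [Scheme.Opens.range_ι]; exact hKS),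
      IsOpenImmersion.lift_fac _ _ _⟩
  obtain ⟨g'', hg''⟩ : ∃ g'' : (S'' : Scheme.{u}) ⟶ S, g'' = S''.ι ≫ g := ⟨_, rfl⟩
  haveI : Etale g'' := by rw [hg'']; infer_instance
  haveI : IsSeparated g'' := by rw [hg'']; infer_instance
  haveI : QuasiCompact g'' := inferInstance
  haveI : LocallyQuasiFinite g'' := locallyQuasiFinite_of_etale g''
  have hw₀g : w₀ ≫ g'' = i := by rw [hg'', ← Category.assoc, hw₀, hv₀]
  obtain ⟨T, j, π, hj, -, hπ, hjπ⟩ := Groth.Agent.Helper1.ZMTa.zmt_qcqs g''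
  haveI := hj
  haveI := hπ
  obtain ⟨Wset, hWcl, hW0, hW1, hWj⟩ := exists_clopen i ha g'' j π hjπ w₀ hw₀g
  obtain ⟨u'', hu''1, hu''2⟩ :=
    exists_section_of_clopen i ha g'' j π w₀ Wset hWcl hW0 hW1 hWj hjπ hw₀g
  have hsec : (u'' ≫ S''.ι) ≫ g = 𝟙 S := by rw [Category.assoc, ← hg'', hu''1]
  have hres : i ≫ u'' ≫ S''.ι = u₀ ≫ pullback.fst g i := by
    rw [← Category.assoc, hu''2, hw₀, hv₀def]
  refine ⟨u'' ≫ S''.ι, ⟨hsec, hres⟩, ?_⟩
  rintro u ⟨hu1, hu2⟩
  refine section_unique i ha g u (u'' ≫ S''.ι) hu1 hsec ?_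
  rw [hu2, hres]

end Groth.Agent.Helper7.HensSec
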